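import Groth.Agent.L01.FormalInverse
import Mathlib.RingTheory.PowerSeries.Substitution
import Mathlib.LinearAlgebra.Matrix.Determinant.Basic
import Mathlib.RingTheory.MvPowerSeries.Inverse
import Mathlib.Algebra.CharP.Two

/-!
Normal forms of power series in three variables in characteristic two.
-/

set_option autoImplicit false
universe u

open MvPowerSeries

namespace Groth.L11.Kum

variable {R : Type u} [CommRing R]

theorem coeff_single_X_mul (i j : Fin 3) (U : MvPowerSeries (Fin 3) R) :
    coeff (Finsupp.single j 1) (X i * U) = if i = j then constantCoeff U else 0 := by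
  classical
  rw [MvPowerSeries.X, coeff_monomial_mul, one_mul]
  by_cases h : i = j
  · subst h; simp
  · rw [if_neg h, if_neg]
    rw [Finsupp.single_le_iff]
    simp [Finsupp.single_eq_of_ne h]

/-- Substitution automorphism. -/
theorem exists_substEquiv (a : Fin 3 → MvPowerSeries (Fin 3) R) (ha : ∀ i, constantCoeff (a i) = 0)
    (hJ : IsUnit (Matrix.det (Matrix.of fun i j : Fin 3 => coeff (Finsupp.single j 1) (a i)))) :
    ∃ ψ : MvPowerSeries (Fin 3) R ≃ₐ[R] MvPowerSeries (Fin 3) R, (∀ i, ψ (X i) = a i) ∧ ∀ r, ψ (C r) = C r := by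
  let f := substAlgHom (R := R) (hasSubst_of_constantCoeff_zero ha)
  have hf : ∀ i, f (X i) = a i := substAlgHom_X _
  have hbij : Function.Bijective f := Groth.L01.FormalInverse.bijective_of_isUnit_det f
    (fun i => by rw [hf]; exact ha i) (by simpa only [hf] using hJ)
  exact ⟨AlgEquiv.ofBijective f hbij, hf, fun r => by rw [c_eq_algebraMap, AlgEquiv.commutes]⟩

/-- Cube roots of principal units when `3` is invertible. -/
theorem exists_cube_root (h3 : IsUnit (3 : R)) (e : MvPowerSeries (Fin 3) R) (he : constantCoeff e = 0) :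
    ∃ w : MvPowerSeries (Fin 3) R, w ^ 3 = 1 + e ∧ constantCoeff w = 1 := by
  let P : PowerSeries R := PowerSeries.C (3 : R) * PowerSeries.X + PowerSeries.C (3 : R) * PowerSeries.X ^ 2 + PowerSeries.X ^ 3
  have hP0 : P.constantCoeff = 0 := by simp [P]
  haveI : Invertible (PowerSeries.coeff 1 P) := IsUnit.invertible (by simpa [P, PowerSeries.coeff_X_pow] using h3)
  set Q := P.substInv
  have hQ : (1 + Q) ^ 3 = 1 + (PowerSeries.X : PowerSeries R) := by
    have h := PowerSeries.subst_substInv_right P hP0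
    have hs : PowerSeries.HasSubst Q := PowerSeries.HasSubst.substInv P
    rw [← PowerSeries.coe_substAlgHom hs] at h
    have hC : ∀ r : R, PowerSeries.substAlgHom (R := R) hs (PowerSeries.C r) = PowerSeries.C r := fun r => by
      rw [show PowerSeries.C r = algebraMap R (PowerSeries R) r from rfl, AlgHom.commutes]
    simp only [P, map_add, map_mul, map_pow, hC, PowerSeries.substAlgHom_X] at h
    have h3' : (PowerSeries.C (3 : R)) = (3 : PowerSeries R) := map_ofNat _ 3
    rw [h3'] at h
    rw [← h]; ring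
  have hse : PowerSeries.HasSubst e := PowerSeries.HasSubst.of_constantCoeff_zero he
  refine ⟨1 + PowerSeries.substAlgHom hse Q, ?_, ?_⟩
  · have := congrArg (PowerSeries.substAlgHom (R := R) hse) hQ
    simpa [PowerSeries.substAlgHom_X] using this
  · rw [map_add, map_one, PowerSeries.coe_substAlgHom hse, PowerSeries.constantCoeff_subst_eq_zero he _
      (PowerSeries.constantCoeff_substInv P), add_zero]

theorem two_eq_zero [CharP R 2] : (2 : MvPowerSeries (Fin 3) R) = 0 := by
  rw [← map_ofNat (C (σ := Fin 3) (R := R)) 2, CharTwo.two_eq_zero, map_zero]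

theorem exists_root_scaled [CharP R 2] (g : R) (κ : R) (U : MvPowerSeries (Fin 3) R) (s : R) (hs : IsUnit s)
    (hU : constantCoeff U = s ^ 2) (hκ : IsUnit κ) (h : s ^ 2 * κ ^ 3 = g) :
    ∃ ρ : MvPowerSeries (Fin 3) R, C g * ρ ^ 3 = U ∧ IsUnit (constantCoeff ρ) := by
  obtain ⟨su, rfl⟩ := hs
  obtain ⟨κu, rfl⟩ := hκ
  have h3 : IsUnit (3 : R) := by
    rw [show (3 : R) = 2 + 1 by norm_num, CharTwo.two_eq_zero, zero_add]; exact isUnit_one
  obtain ⟨w, hw, hw0⟩ := exists_cube_root h3 (C (((su⁻¹ : Rˣ) : R) ^ 2) * U - 1) (by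
    rw [map_sub, map_mul, constantCoeff_C, map_one, hU, ← mul_pow, Units.inv_mul, one_pow, sub_self])
  refine ⟨C ((κu⁻¹ : Rˣ) : R) * w, ?_, by rw [map_mul, constantCoeff_C, hw0, mul_one]; exact Units.isUnit _⟩
  rw [mul_pow, ← map_pow, hw, ← mul_assoc, ← map_mul, add_sub_cancel, ← mul_assoc, ← map_mul, ← h,
    show (su : R) ^ 2 * (κu : R) ^ 3 * ((κu⁻¹ : Rˣ) : R) ^ 3 * ((su⁻¹ : Rˣ) : R) ^ 2 =
      ((su : R) * ((su⁻¹ : Rˣ) : R)) ^ 2 * ((κu : R) * ((κu⁻¹ : Rˣ) : R)) ^ 3 by ring,
    Units.mul_inv, Units.mul_inv, one_pow, one_pow, one_mul, map_one, one_mul]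

end Groth.L11.Kum
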