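import Mathlib.Algebra.MvPolynomial.Expand
import Mathlib.Algebra.MvPolynomial.PDeriv
import Mathlib.Algebra.MvPolynomial.Derivation
import Mathlib.Algebra.CharP.Two
import Mathlib.Algebra.CharP.Algebra
import Mathlib.RingTheory.Ideal.Span
import Mathlib.RingTheory.Adjoin.Basic
import Mathlib.Tactic.Ring

/-!
Parity decomposition of polynomials in two variables in characteristic two.
-/

set_option autoImplicit false
universe u

open MvPolynomial

namespace Groth.L11.Kum.Parity

variable {R : Type u} [CommRing R]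

/-- Squaring both variables. -/
noncomputable def sq : MvPolynomial (Fin 2) R →ₐ[R] MvPolynomial (Fin 2) R := expand 2

theorem sq_C (r : R) : sq (C r) = (C r : MvPolynomial (Fin 2) R) := expand_C 2 r

theorem sq_X (i : Fin 2) : sq (X i) = (X i ^ 2 : MvPolynomial (Fin 2) R) := expand_X 2 i

theorem sq_injective : Function.Injective (sq : MvPolynomial (Fin 2) R →ₐ[R] MvPolynomial (Fin 2) R) :=
  expand_injective two_pos

/-- The polynomial with given parity components. -/
noncomputable def comb (a b c d : MvPolynomial (Fin 2) R) : MvPolynomial (Fin 2) R :=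
  sq a + X 0 * sq b + X 1 * sq c + X 0 * X 1 * sq d

theorem exists_comb (p : MvPolynomial (Fin 2) R) : ∃ a b c d, p = comb a b c d := by
  induction p using MvPolynomial.induction_on with
  | C r => exact ⟨C r, 0, 0, 0, by simp [comb, sq_C]⟩
  | add p q hp hq =>
    obtain ⟨a, b, c, d, rfl⟩ := hp
    obtain ⟨a', b', c', d', rfl⟩ := hq
    exact ⟨a + a', b + b', c + c', d + d', by simp only [comb, map_add]; ring⟩
  | mul_X p i hp =>
    obtain ⟨a, b, c, d, rfl⟩ := hp
    fin_cases i
    · exact ⟨X 0 * b, a, X 0 * d, c, by simp only [comb, map_mul, sq_X, Fin.zero_eta, Fin.mk_one]; ring⟩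
    · exact ⟨X 1 * c, X 1 * d, a, b, by simp only [comb, map_mul, sq_X, Fin.zero_eta, Fin.mk_one]; ring⟩

/-- Multiplication in parity components. -/
theorem comb_mul (a b c d a' b' c' d' : MvPolynomial (Fin 2) R) :
    comb a b c d * comb a' b' c' d' =
      comb (a * a' + X 0 * (b * b') + X 1 * (c * c') + X 0 * X 1 * (d * d'))
        (a * b' + b * a' + X 1 * (c * d' + d * c'))
        (a * c' + c * a' + X 0 * (b * d' + d * b'))
        (a * d' + d * a' + b * c' + c * b') := by
  simp only [comb, map_add, map_mul, sq_X]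
  ring

theorem mkDerivation_sq [CharP R 2] (v : Fin 2 → MvPolynomial (Fin 2) R) (Q : MvPolynomial (Fin 2) R) :
    mkDerivation R v (sq Q) = 0 := by
  induction Q using MvPolynomial.induction_on with
  | C r => rw [sq_C, derivation_C]
  | add p q hp hq => rw [map_add, map_add, hp, hq, add_zero]
  | mul_X p i hp =>
    rw [map_mul, sq_X, Derivation.leibniz, hp, smul_zero, add_zero, pow_two, Derivation.leibniz]
    simp only [smul_eq_mul, CharTwo.add_self_eq_zero, mul_zero]

theorem mkDerivation_comb [CharP R 2] (v : Fin 2 → MvPolynomial (Fin 2) R) (a b c d : MvPolynomial (Fin 2) R) :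
    mkDerivation R v (comb a b c d) = v 0 * sq b + v 1 * sq c + (X 0 * v 1 + X 1 * v 0) * sq d := by
  simp only [comb, map_add, Derivation.leibniz, mkDerivation_sq, mkDerivation_X, smul_eq_mul, smul_zero, mul_zero]
  ring

theorem comb_eq_zero_iff [CharP R 2] {a b c d : MvPolynomial (Fin 2) R} :
    comb a b c d = 0 ↔ a = 0 ∧ b = 0 ∧ c = 0 ∧ d = 0 := by
  refine ⟨fun h => ?_, fun ⟨ha, hb, hc, hd⟩ => by simp [comb, ha, hb, hc, hd]⟩
  have hu := congrArg (mkDerivation R (![1, 0] : Fin 2 → MvPolynomial (Fin 2) R)) h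
  have hv := congrArg (mkDerivation R (![0, 1] : Fin 2 → MvPolynomial (Fin 2) R)) h
  rw [mkDerivation_comb, map_zero] at hu hv
  simp only [Matrix.cons_val_zero, Matrix.cons_val_one, one_mul, zero_mul, mul_zero, mul_one, zero_add, add_zero] at hu hv
  have hd := congrArg (mkDerivation R (![0, 1] : Fin 2 → MvPolynomial (Fin 2) R)) hu
  rw [map_add, Derivation.leibniz, mkDerivation_sq, mkDerivation_sq, mkDerivation_X, map_zero] at hd
  simp only [Matrix.cons_val_one, Matrix.cons_val_zero, smul_eq_mul, mul_zero, zero_add, mul_one] at hd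
  have hd0 : d = 0 := sq_injective (hd.trans (map_zero _).symm)
  rw [hd0, map_zero, mul_zero, add_zero] at hu hv
  have hb0 : b = 0 := sq_injective (hu.trans (map_zero _).symm)
  have hc0 : c = 0 := sq_injective (hv.trans (map_zero _).symm)
  refine ⟨sq_injective ?_, hb0, hc0, hd0⟩
  simpa [comb, hb0, hc0, hd0] using h

theorem comb_inj [CharP R 2] {a b c d a' b' c' d' : MvPolynomial (Fin 2) R} (h : comb a b c d = comb a' b' c' d') :
    a = a' ∧ b = b' ∧ c = c' ∧ d = d' := by
  have : comb (a - a') (b - b') (c - c') (d - d') = 0 := by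
    rw [← sub_self (comb a b c d)]
    conv_rhs => arg 2; rw [h]
    simp only [comb, map_sub]
    ring
  obtain ⟨h1, h2, h3, h4⟩ := comb_eq_zero_iff.1 this
  exact ⟨sub_eq_zero.1 h1, sub_eq_zero.1 h2, sub_eq_zero.1 h3, sub_eq_zero.1 h4⟩

/-- Substituting the two squares and `g` in a polynomial in three variables. -/
theorem exists_linear (g : MvPolynomial (Fin 2) R) (ρ : MvPolynomial (Fin 2) R) (P : MvPolynomial (Fin 3) R) :
    ∃ P0 P1 : MvPolynomial (Fin 2) R, P - (aeval ![X 0, X 1] P0 + X 2 * aeval ![X 0, X 1] P1) ∈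
      Ideal.span {X 2 ^ 2 - aeval ![X 0, X 1] ρ} := by
  induction P using MvPolynomial.induction_on with
  | C r => exact ⟨C r, 0, by simp⟩
  | add p q hp hq =>
    obtain ⟨a, b, hp⟩ := hp
    obtain ⟨a', b', hq⟩ := hq
    refine ⟨a + a', b + b', ?_⟩
    have := Ideal.add_mem _ hp hq
    convert! this using 1
    simp only [map_add]; ring
  | mul_X p i hp =>
    obtain ⟨a, b, hp⟩ := hp
    have hp' := Ideal.mul_mem_right (X i) _ hp
    fin_cases i
    · refine ⟨a * X 0, b * X 0, ?_⟩
      convert! hp' using 1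
      simp only [map_mul, aeval_X, Fin.isValue, Matrix.cons_val_zero, Fin.zero_eta]; ring
    · refine ⟨a * X 1, b * X 1, ?_⟩
      convert! hp' using 1
      simp only [map_mul, aeval_X, Fin.isValue, Matrix.cons_val_one, Matrix.cons_val_zero, Fin.mk_one]; ring
    · refine ⟨b * ρ, a, ?_⟩
      have := Ideal.add_mem _ hp' (Ideal.mul_mem_left _ (aeval ![X 0, X 1] b) (Ideal.mem_span_singleton_self (X 2 ^ 2 - aeval ![X 0, X 1] ρ)))
      convert! this using 1
      simp only [map_mul, Fin.reduceFinMk]; ring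

theorem aeval_sq (g : MvPolynomial (Fin 2) R) (Q : MvPolynomial (Fin 2) R) :
    aeval ![X 0 ^ 2, X 1 ^ 2, g] (aeval ![X 0, X 1] Q : MvPolynomial (Fin 3) R) = sq Q := by
  induction Q using MvPolynomial.induction_on with
  | C r => rw [sq_C, algHom_C, AlgHom.commutes, algebraMap_eq]
  | add p q hp hq => simp only [map_add, hp, hq]
  | mul_X p i hp =>
    rw [map_mul, map_mul, hp, map_mul, sq_X, aeval_X]
    congr 1
    fin_cases i <;> simp

theorem sq_mem_adjoin (s : Set (MvPolynomial (Fin 2) R)) (h0 : X 0 ^ 2 ∈ s) (h1 : X 1 ^ 2 ∈ s)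
    (Q : MvPolynomial (Fin 2) R) : sq Q ∈ Algebra.adjoin R s := by
  induction Q using MvPolynomial.induction_on with
  | C r => rw [sq_C]; exact Subalgebra.algebraMap_mem _ r
  | add p q hp hq => rw [map_add]; exact add_mem hp hq
  | mul_X p i hp =>
    rw [map_mul, sq_X]
    refine mul_mem hp ?_
    fin_cases i
    · exact Algebra.subset_adjoin h0
    · exact Algebra.subset_adjoin h1

/-- The kernel of `a, b, c ↦ u², v², g` is generated by the quadratic equation of `g`. -/
theorem ker_eq_span [CharP R 2] (g ρ : MvPolynomial (Fin 2) R) (b c d : MvPolynomial (Fin 2) R)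
    (hg : g = comb 0 b c d) (hd : ∀ Q, d * Q = 0 → Q = 0) (hsq : g ^ 2 = sq ρ) :
    RingHom.ker (aeval (R := R) (S₁ := MvPolynomial (Fin 2) R) ![X 0 ^ 2, X 1 ^ 2, g]) =
      Ideal.span {(X 2 ^ 2 - aeval ![X 0, X 1] ρ : MvPolynomial (Fin 3) R)} := by
  set φ := aeval (R := R) (S₁ := MvPolynomial (Fin 2) R) ![X 0 ^ 2, X 1 ^ 2, g]
  have hX2 : φ (X 2) = g := by simp [φ]
  have hrel : Ideal.span {(X 2 ^ 2 - aeval ![X 0, X 1] ρ : MvPolynomial (Fin 3) R)} ≤ RingHom.ker φ := by
    rw [Ideal.span_singleton_le_iff_mem, RingHom.mem_ker, map_sub, map_pow, hX2, aeval_sq, hsq, sub_self]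
  refine le_antisymm (fun P hP => ?_) hrel
  obtain ⟨P0, P1, hP01⟩ := exists_linear g ρ P
  have h := RingHom.mem_ker.1 (hrel hP01)
  rw [map_sub, RingHom.mem_ker.1 hP, map_add, map_mul, hX2, aeval_sq, aeval_sq, zero_sub, neg_eq_zero] at h
  have h' : comb P0 (b * P1) (c * P1) (d * P1) = 0 := by
    rw [← h, hg]
    simp only [comb, map_mul, map_zero]
    ring
  obtain ⟨h0, -, -, h3⟩ := comb_eq_zero_iff.1 h'
  rw [h0, hd P1 h3] at hP01
  simpa using hP01

end Groth.L11.Kum.Parity
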